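import Groth.Agent.EtLim8.Res
import Groth.Agent.EtLC12.RpushTorsion

/-!
# Direct images of torsion sheaves along quasi-compact quasi-separated morphisms are torsion
-/

set_option autoImplicit false
set_option backward.isDefEq.respectTransparency.types false

universe u

open CategoryTheory CategoryTheory.Limits AlgebraicGeometry Opposite

namespace Groth.Agent.EtLim5

open EtFound EtLim8

theorem isTorsion_push {X Y : Scheme.{u}} (f : X ⟶ Y) [QuasiCompact f] [QuasiSeparated f]
    (F : EtCoh.Ab X) (hF : EtCoh.IsTorsion F) : EtCoh.IsTorsion ((EtCoh.push f).obj F) := by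
  intro U s x
  obtain ⟨B, hB, hxB, -⟩ := exists_isAffineOpen_mem_and_subset (U := (⊤ : U.left.Opens))
    (TopologicalSpace.Opens.mem_top x)
  haveI : AlgebraicGeometry.Etale U.hom := U.prop
  let V : Y.Etale := Scheme.Etale.mk (B.ι ≫ U.hom)
  let g : V ⟶ U := MorphismProperty.Over.homMk B.ι rfl trivial
  refine ⟨V, g, ⟨⟨x, hxB⟩, rfl⟩, ?_⟩
  let t : F.obj.obj (op ((EtCoh.bc f).obj V)) := F.obj.map ((EtCoh.bc f).map g).op s
  haveI : CompactSpace ↥((EtCoh.bc f).obj V).left :=
    (Groth.Agent.EtLC12.RpushTorsion.isQcqsObj_bc f V hB).1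
  choose W q hv hfin using fun y => hF ((EtCoh.bc f).obj V) t y
  choose v hv using hv
  have hopen : ∀ y, IsOpen (Set.range (q y).left.base) := fun y => by
    haveI := etale_left (q y)
    exact (q y).left.isOpenMap.isOpen_range
  obtain ⟨T, hT⟩ := isCompact_univ.elim_finite_subcover (fun y => Set.range (q y).left.base) hopen
    (fun y _ => Set.mem_iUnion.2 ⟨y, v y, hv y⟩)
  let N := ∏ y ∈ T, addOrderOf (F.obj.map (q y).op t)
  have hN : 0 < N := Finset.prod_pos fun y _ => addOrderOf_pos_iff.2 (hfin y)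
  refine isOfFinAddOrder_iff_nsmul_eq_zero.2 ⟨N, hN, ?_⟩
  change N • t = 0
  refine eq_zero_of_nullLocus fun y => ?_
  obtain ⟨z, hz, w, hw⟩ := Set.mem_iUnion₂.1 (hT (Set.mem_univ y))
  refine ⟨W z, q z, w, hw, ?_⟩
  rw [map_nsmul]
  exact addOrderOf_dvd_iff_nsmul_eq_zero.1 (Finset.dvd_prod_of_mem _ hz)

end Groth.Agent.EtLim5
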