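import Groth.Agent.EtLim5.Crit
import Groth.Agent.EtAcycLib.Compose

/-!
# Cohomology of any colimit target is the colimit of the cohomologies
-/

set_option autoImplicit false
set_option linter.style.haveILetI false
set_option linter.unusedSectionVars false
set_option linter.unusedVariables false
set_option backward.isDefEq.respectTransparency.types false

universe u

open CategoryTheory CategoryTheory.Limits AlgebraicGeometry Opposite Abelian

namespace Groth.Agent.EtLim5

open EtLim8 EtFound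

attribute [local instance] preservesFiniteLimits_pull

variable {ι : Type u} [Preorder ι] [IsDirected ι (· ≤ ·)] [Nonempty ι] {Xs : ιᵒᵖ ⥤ Scheme.{u}}
  {c : Cone Xs} {S : Sys Xs}

/-- a morphism between two colimit targets compatible with the structure maps is an isomorphism -/
theorem isIso_of_isColim {T T' : Target S c} (hT : T.IsColim) (hT' : T'.IsColim) (η : T.G ⟶ T'.G)
    (hη : ∀ i, T.g i ≫ (EtCoh.push (pr c i)).map η = T'.g i) : IsIso η := by
  have key : ∀ (i : ι) (V : (Xs.obj (op i)).Etale) (W : c.pt.Etale) (a : W.left ⟶ V.left)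
      (w : a ≫ V.hom = W.hom ≫ pr c i) (s : (S.F i).obj.obj (op V)),
      (η.hom.app (op W)).hom (res _ (T.g i) a w s) = res _ (T'.g i) a w s := by
    intro i V W a w s
    rw [← res_comp_push_map, hη]
  refine (Sheaf.isLocallyBijective_iff_isIso η).1 ⟨Presheaf.isLocallyInjective_of_injective _ _
    fun U s t hst => ?_, ⟨fun {U} s => (mem_topology_iff _).2 fun x => ?_⟩⟩
  · refine eq_of_sub_eq_zero (eq_zero_of_nullLocus fun x => ?_)
    obtain ⟨W', q, y, hy, j, V, a, w, r, hr⟩ := hT.surj U.unop (s - t) x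
    have h0 : res _ (T'.g j) a w r = 0 := by
      rw [← key, hr, NatTrans.naturality_apply, map_sub]
      exact (congrArg (T'.G.obj.map q.op).hom (sub_eq_zero.2 hst)).trans (map_zero _)
    obtain ⟨k, hjk, W₁, b, wb, e, we, hbe, hnull⟩ := hT'.inj j V W' a w r h0 y
    have h1 := res_mem_nullLocus (T.g k) b wb (res _ (S.l hjk) e we r) hnull
    rw [T.comp hjk V W₁ W' e we b wb a w hbe r, hr] at h1
    rw [← hy]
    exact mem_nullLocus_of_map q _ h1
  · obtain ⟨W', q, y, hy, j, V, a, w, r, hr⟩ := hT'.surj U s x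
    exact ⟨W', q, y, ⟨res _ (T.g j) a w r, (key j V W' a w r).trans hr⟩, hy⟩

variable [hA : ∀ {a b : ιᵒᵖ} (h : a ⟶ b), IsAffineHom (Xs.map h)]
  (hc : IsLimit c) (hqc : ∀ a, CompactSpace ↥(Xs.obj a)) (hqs : ∀ a, QuasiSeparatedSpace ↥(Xs.obj a))

include hc hqc hqs

/-- cohomology of a colimit target is the colimit of the cohomologies -/
theorem comm_of_isColim (hU : S.IsUnital) (T : Target S c) (hT : T.IsColim) (n : ℕ)
    [∀ j, PreservesFiniteLimits (EtCoh.pull (pr c j))] :
    (∀ ξ : EtCoh.H c.pt T.G n, ∃ (j : ι) (ξj : EtCoh.H (Xs.obj (op j)) (S.F j) n),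
      EtLim.HpullThen (pr c j) (S.F j) (((EtCoh.pullPushAdj (pr c j)).homEquiv _ _).symm (T.g j)) n ξj = ξ) ∧
    (∀ (j : ι) (ξj : EtCoh.H (Xs.obj (op j)) (S.F j) n),
      EtLim.HpullThen (pr c j) (S.F j) (((EtCoh.pullPushAdj (pr c j)).homEquiv _ _).symm (T.g j)) n ξj = 0 →
        ∃ (k : ι) (h : j ≤ k), S.trH h n ξj = 0) := by
  have he : ∀ ⦃i j : ι⦄ (h : i ≤ j), Compat (S.l h)
      ((EtCoh.pullPushAdj (pr c j)).homEquiv _ _ (((EtCoh.pullPushAdj (pr c j)).homEquiv _ _).symm (T.g j)))
      ((EtCoh.pullPushAdj (pr c i)).homEquiv _ _ (((EtCoh.pullPushAdj (pr c i)).homEquiv _ _).symm (T.g i))) := by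
    intro i j h
    rw [Equiv.apply_symm_apply, Equiv.apply_symm_apply]
    exact T.comp h
  let e := fun j => ((EtCoh.pullPushAdj (pr c j)).homEquiv _ _).symm (T.g j)
  haveI : IsIso (S.descColim (c := c) hU e he) := by
    refine isIso_of_isColim (T := (S.diag c hU).target) (T' := T) (S.diag c hU).isColim hT _ fun i => ?_
    rw [S.target_g hU]
    refine (Adjunction.homEquiv_naturality_right (EtCoh.pullPushAdj (pr c i)) _ _).symm.trans ?_
    exact (congrArg _ (S.ι_descColim hU e he i)).trans (Equiv.apply_symm_apply _ _)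
  let E := asIso (S.descColim (c := c) hU e he)
  have H : S.Comm (c := c) hU n := Sys.comm hc hqc hqs n S hU
  refine ⟨fun ξ => ?_, fun j ξj hξ => ?_⟩
  · obtain ⟨j, ξj, hξj⟩ := H.surj (ξ.comp (Ext.mk₀ E.inv) (add_zero n))
    refine ⟨j, ξj, (S.colimH_descColim hU e he j n ξj).symm.trans ?_⟩
    rw [hξj]
    simp [E]
  · refine H.inj j ξj ((Groth.Agent.EtAcycLib.bijective_comp_mk₀ E).1 ?_)
    exact (S.colimH_descColim hU e he j n ξj).trans (hξ.trans (Ext.zero_comp _ _ _ _ _).symm)

end Groth.Agent.EtLim5
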