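import Groth.Agent.EtLim8.Const
import Groth.Agent.EtLim8.AcyclicColim

/-!
# Section-wise criterion for a target of a system to be its colimit
-/

set_option autoImplicit false
set_option linter.style.haveILetI false
set_option linter.unusedSectionVars false
set_option linter.unusedVariables false
set_option backward.isDefEq.respectTransparency.types false

universe u

open CategoryTheory CategoryTheory.Limits AlgebraicGeometry Opposite

namespace Groth.Agent.EtLim5

open EtLim8 EtFound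

variable {ι : Type u} [Preorder ι] {Xs : ιᵒᵖ ⥤ Scheme.{u}}
  {c : Cone Xs} {S : Sys Xs}

/-- on every quasi-compact quasi-separated étale object of a stage, the sections of the target are the colimit
of the sections of the system -/
structure IsCont (T : Target S c) : Prop where
  surj : ∀ (j : ι) (V : (Xs.obj (op j)).Etale), IsQcqsObj V →
    ∀ σ : T.G.obj.obj (op ((EtCoh.bc (pr c j)).obj V)), ∃ (k : ι) (h : j ≤ k)
      (s : (S.F k).obj.obj (op ((EtCoh.bc (tr Xs h)).obj V))),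
      res (pr c k) (T.g k) (bcMap (tr Xs h) (pr c k) (pr c j) (pr_tr c h) V) (bcMap_w _ V) s = σ
  inj : ∀ (j : ι) (V : (Xs.obj (op j)).Etale), IsQcqsObj V → ∀ s : (S.F j).obj.obj (op V),
    res (pr c j) (T.g j) (bcFst (pr c j) V) (bcFst_w _ V) s = 0 →
      ∃ (k : ι) (h : j ≤ k), res (tr Xs h) (S.l h) (bcFst (tr Xs h) V) (bcFst_w _ V) s = 0

variable [IsDirected ι (· ≤ ·)] [Nonempty ι] [hA : ∀ {a b : ιᵒᵖ} (h : a ⟶ b), IsAffineHom (Xs.map h)]
  (hc : IsLimit c) (hqc : ∀ a, CompactSpace ↥(Xs.obj a)) (hqs : ∀ a, QuasiSeparatedSpace ↥(Xs.obj a))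
  (T : Target S c)

include hc hqc hqs

set_option maxHeartbeats 3200000 in
theorem isColim_of_isCont (hT : IsCont T) : T.IsColim where
  surj W σ x := by
    obtain ⟨B, hB, hxB, -⟩ := exists_isAffineOpen_mem_and_subset (U := (⊤ : W.left.Opens))
      (TopologicalSpace.Opens.mem_top x)
    haveI : AlgebraicGeometry.Etale W.hom := W.prop
    let W₁ : c.pt.Etale := Scheme.Etale.mk (B.ι ≫ W.hom)
    let inc : W₁ ⟶ W := MorphismProperty.Over.homMk B.ι rfl trivial
    haveI : IsAffine W₁.left := hB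
    obtain ⟨j, A, a, hpb, hAq⟩ := exists_stage_model hc hqc hqs W₁
    let P := (EtCoh.bc (pr c j)).obj A
    let p₀ : P.left ⟶ W₁.left := hpb.lift (bcFst (pr c j) A) P.hom (bcFst_w _ A)
    let p : P ⟶ W₁ := MorphismProperty.Over.homMk p₀ (hpb.lift_snd _ _ _) trivial
    obtain ⟨k, hjk, s, hs⟩ := hT.surj j A hAq (T.G.obj.map (p ≫ inc).op σ)
    have hsurj : (liftBc (pr c j) a hpb.w ≫ p).left = 𝟙 W₁.left := by
      refine hpb.hom_ext ?_ ?_
      · refine (Category.assoc _ _ _).trans ?_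
        refine (congrArg (_ ≫ ·) (hpb.lift_fst _ _ _)).trans ?_
        exact (liftBc_fst (pr c j) a hpb.w).trans (Category.id_comp _).symm
      · exact (MorphismProperty.Over.w (liftBc (pr c j) a hpb.w ≫ p)).trans (Category.id_comp _).symm
    refine ⟨P, p ≫ inc, (liftBc (pr c j) a hpb.w).left.base ⟨x, hxB⟩, ?_, k, _, _, bcMap_w _ A, s, hs⟩
    change ((liftBc (pr c j) a hpb.w).left ≫ (p ≫ inc).left).base ⟨x, hxB⟩ = x
    have e : (liftBc (pr c j) a hpb.w).left ≫ (p ≫ inc).left = inc.left := by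
      refine (Category.assoc _ _ _).symm.trans ?_
      exact (congrArg (· ≫ inc.left) hsurj).trans (Category.id_comp _)
    rw [e]
    rfl
  inj j V W a w s h x := by
    obtain ⟨A₀, hA₀, hxA₀, -⟩ := exists_isAffineOpen_mem_and_subset (U := (⊤ : V.left.Opens))
      (TopologicalSpace.Opens.mem_top (a.base x))
    haveI : AlgebraicGeometry.Etale V.hom := V.prop
    haveI : AlgebraicGeometry.Etale W.hom := W.prop
    -- an affine neighbourhood at the stage
    let V₀ : (Xs.obj (op j)).Etale := Scheme.Etale.mk (A₀.ι ≫ V.hom)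
    let i₀ : V₀ ⟶ V := MorphismProperty.Over.homMk A₀.ι rfl trivial
    haveI : IsAffine V₀.left := hA₀
    have hV₀ : IsQcqsObj V₀ := isQcqsObj_of_isAffine _
    let W₀ : c.pt.Etale := Scheme.Etale.mk ((a ⁻¹ᵁ A₀).ι ≫ W.hom)
    let e₀ : W₀ ⟶ W := MorphismProperty.Over.homMk (a ⁻¹ᵁ A₀).ι rfl trivial
    let a₀ : W₀.left ⟶ V₀.left := a ∣_ A₀
    have ha₀ : a₀ ≫ i₀.left = e₀.left ≫ a := morphismRestrict_ι a A₀
    have w₀ : a₀ ≫ V₀.hom = W₀.hom ≫ pr c j := by
      change a₀ ≫ i₀.left ≫ V.hom = _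
      rw [← Category.assoc, ha₀, Category.assoc, w, ← Category.assoc]
      rfl
    let s₀ := (S.F j).obj.map i₀.op s
    let P := (EtCoh.bc (pr c j)).obj V₀
    let σ := res (pr c j) (T.g j) (bcFst (pr c j) V₀) (bcFst_w _ V₀) s₀
    let m : W₀ ⟶ P := liftBc (pr c j) a₀ w₀
    have hm : T.G.obj.map m.op σ = 0 := by
      have w' : (e₀.left ≫ a) ≫ V.hom = W₀.hom ≫ pr c j := by
        rw [Category.assoc, w, ← Category.assoc]
        rfl
      rw [res_map_right (T.g j) (bcFst (pr c j) V₀) (bcFst_w _ V₀) m a₀ (liftBc_fst _ _ _) w₀ s₀,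
        res_map_left _ a₀ w₀ i₀ (e₀.left ≫ a) ha₀ w', ← res_map_right _ a w e₀ _ rfl w', h, map_zero]
    haveI := etale_left m
    let O : P.left.Opens := ⟨Set.range m.left.base, m.left.isOpenMap.isOpen_range⟩
    have hσO : ∀ y ∈ O, y ∈ nullLocus T.G P σ := fun y ⟨z, hz⟩ => ⟨W₀, m, z, hz, hm⟩
    obtain ⟨k, hjk, A, hA', hxA, hAO⟩ := exists_affine_nhd j V₀ hc O (m.left.base ⟨x, hxA₀⟩) ⟨_, rfl⟩
    let Vk := (EtCoh.bc (tr Xs hjk)).obj V₀
    haveI : AlgebraicGeometry.Etale Vk.hom := Vk.prop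
    let Ak : (Xs.obj (op k)).Etale := Scheme.Etale.mk (A.ι ≫ Vk.hom)
    let ik : Ak ⟶ Vk := MorphismProperty.Over.homMk A.ι rfl trivial
    haveI : IsAffine Ak.left := hA'
    have hwA : (ik.left ≫ bcFst (tr Xs hjk) V₀) ≫ V₀.hom = Ak.hom ≫ tr Xs hjk := by
      rw [Category.assoc, bcFst_w, ← Category.assoc]
      rfl
    let sA := res (tr Xs hjk) (S.l hjk) (ik.left ≫ bcFst (tr Xs hjk) V₀) hwA s₀
    -- over the limit this piece lies where the section vanishes
    let Q := (EtCoh.bc (pr c k)).obj Ak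
    have hzero : res (pr c k) (T.g k) (bcFst (pr c k) Ak) (bcFst_w _ Ak) sA = 0 := by
      have wr : (bcFst (pr c k) Ak ≫ ik.left ≫ bcFst (tr Xs hjk) V₀) ≫ V₀.hom = Q.hom ≫ pr c j := by
        rw [Category.assoc, hwA, ← Category.assoc, bcFst_w, Category.assoc, pr_tr]
      let r : Q ⟶ P := liftBc (pr c j) _ wr
      have hr : T.G.obj.map r.op σ = res (pr c k) (T.g k) (bcFst (pr c k) Ak) (bcFst_w _ Ak) sA := by
        rw [res_map_right (T.g j) (bcFst (pr c j) V₀) (bcFst_w _ V₀) r _ (liftBc_fst _ _ _) wr s₀]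
        exact (T.comp hjk V₀ Ak Q _ hwA _ (bcFst_w _ Ak) _ wr rfl s₀).symm
      rw [← hr]
      refine eq_zero_of_nullLocus fun y => map_mem_nullLocus r σ (hσO _ (hAO _ ?_))
      have e : r.left ≫ bcMap (tr Xs hjk) (pr c k) (pr c j) (pr_tr c hjk) V₀ =
          bcFst (pr c k) Ak ≫ ik.left := by
        refine bc_hom_ext ?_ ?_
        · rw [Category.assoc, bcMap_fst, liftBc_fst, Category.assoc]
        · rw [Category.assoc, bcMap_w, ← Category.assoc, Category.assoc]
          refine (congrArg (· ≫ pr c k) (MorphismProperty.Over.w r)).trans ?_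
          refine (bcFst_w (pr c k) Ak).symm.trans ?_
          exact congrArg (_ ≫ ·) (MorphismProperty.Over.w ik).symm
      rw [← Scheme.Hom.comp_apply, e, Scheme.Hom.comp_apply]
      exact ((bcFst (pr c k) Ak).base y).2
    obtain ⟨l, hkl, hl⟩ := hT.inj k Ak (isQcqsObj_of_isAffine _) sA hzero
    let Vl := (EtCoh.bc (tr Xs (hjk.trans hkl))).obj V
    let Al := (EtCoh.bc (tr Xs hkl)).obj Ak
    let b : W.left ⟶ Vl.left := pullback.lift a (W.hom ≫ pr c l) (by rw [Category.assoc, pr_tr]; exact w)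
    have hb : b ≫ bcFst (tr Xs (hjk.trans hkl)) V = a := pullback.lift_fst _ _ _
    have wb : b ≫ Vl.hom = W.hom ≫ pr c l := pullback.lift_snd _ _ _
    have wg : ((bcFst (tr Xs hkl) Ak ≫ ik.left ≫ bcFst (tr Xs hjk) V₀) ≫ i₀.left) ≫ V.hom =
        Al.hom ≫ tr Xs (hjk.trans hkl) := by
      rw [Category.assoc]
      change (bcFst (tr Xs hkl) Ak ≫ ik.left ≫ bcFst (tr Xs hjk) V₀) ≫ V₀.hom = _
      rw [Category.assoc, hwA, ← Category.assoc, bcFst_w, Category.assoc, tr_comp]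
    let g : Al ⟶ Vl := liftBc (tr Xs (hjk.trans hkl)) _ wg
    have wgl : (bcFst (tr Xs hkl) Ak ≫ ik.left ≫ bcFst (tr Xs hjk) V₀) ≫ V₀.hom =
        Al.hom ≫ tr Xs (hjk.trans hkl) := by
      rw [Category.assoc, hwA, ← Category.assoc, bcFst_w, Category.assoc, tr_comp]
    have hg : (S.F l).obj.map g.op
        (res (tr Xs (hjk.trans hkl)) (S.l (hjk.trans hkl)) (bcFst _ V) (bcFst_w _ V) s) = 0 := by
      rw [res_map_right (S.l (hjk.trans hkl)) _ (bcFst_w _ V) g _ (liftBc_fst _ _ _) wg s,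
        ← res_map_left (S.l (hjk.trans hkl)) _ wgl i₀ _ rfl wg s]
      exact (S.comp hjk hkl V₀ Ak Al _ hwA _ (bcFst_w _ Ak) _ wgl rfl s₀).symm.trans hl
    -- the point lies on that piece
    let q : W₀.left ⟶ Vk.left := m.left ≫ bcMap (tr Xs hjk) (pr c k) (pr c j) (pr_tr c hjk) V₀
    let W₂ : W₀.left.Opens := q ⁻¹ᵁ A
    let α : (W₂ : Scheme.{u}) ⟶ Ak.left := q ∣_ A
    have hα : α ≫ ik.left = W₂.ι ≫ q := morphismRestrict_ι q A
    have wα : α ≫ Ak.hom = (W₂.ι ≫ W₀.hom) ≫ pr c k := by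
      change α ≫ ik.left ≫ Vk.hom = _
      rw [← Category.assoc, hα]
      simp only [q, Category.assoc]
      rw [bcMap_w]
      exact congrArg (W₂.ι ≫ ·) ((Category.assoc _ _ _).symm.trans
        (congrArg (· ≫ pr c k) (MorphismProperty.Over.w m)))
    let β : (W₂ : Scheme.{u}) ⟶ Al.left := pullback.lift α ((W₂.ι ≫ W₀.hom) ≫ pr c l) (by
      refine wα.trans ?_
      rw [Category.assoc (W₂.ι ≫ W₀.hom), pr_tr])
    refine ⟨l, hjk.trans hkl, Vl, b, wb, bcFst _ V, bcFst_w _ V, hb, Al, g,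
      β.base ⟨⟨x, hxA₀⟩, hxA⟩, ?_, hg⟩
    have e : β ≫ g.left = W₂.ι ≫ e₀.left ≫ b := by
      refine bc_hom_ext ?_ ?_
      · refine (Category.assoc _ _ _).trans (Eq.trans ?_ ((Category.assoc _ _ _).trans
          (congrArg (W₂.ι ≫ ·) ((Category.assoc _ _ _).trans (congrArg (e₀.left ≫ ·) hb)))).symm)
        rw [liftBc_fst]
        change β ≫ (bcFst (tr Xs hkl) Ak ≫ ik.left ≫ bcFst (tr Xs hjk) V₀) ≫ i₀.left = _
        simp only [← Category.assoc]
        rw [show β ≫ bcFst (tr Xs hkl) Ak = α from pullback.lift_fst _ _ _, hα]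
        simp only [q, Category.assoc]
        refine congrArg (W₂.ι ≫ ·) ?_
        rw [bcMap_fst_assoc, ← Category.assoc, liftBc_fst, ha₀]
      · rw [Category.assoc, MorphismProperty.Over.w g, Category.assoc, Category.assoc, wb]
        exact (pullback.lift_snd _ _ _).trans (by simp only [Category.assoc]; rfl)
    rw [← Scheme.Hom.comp_apply, e]
    rfl

end Groth.Agent.EtLim5
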