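import Groth.Agent.EtLim5.Comm
import Groth.Prelude.Def_EtLim

/-!
# Sheaves of functions on a limit of schemes
-/

set_option autoImplicit false
set_option linter.style.haveILetI false
set_option linter.unusedSectionVars false
set_option linter.unusedVariables false
set_option backward.isDefEq.respectTransparency.types false

universe u

open CategoryTheory CategoryTheory.Limits AlgebraicGeometry Opposite Abelian

namespace Groth.Agent.EtLim5

open EtLim8 EtFound

variable (P : Scheme.{u}ᵒᵖ ⥤ AddCommGrpCat.{u + 1}) (hP : Presheaf.IsSheaf Scheme.etaleTopology P)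

/-- the small étale sheaf of a sheaf on schemes -/
noncomputable abbrev shf (X : Scheme.{u}) : EtCoh.Ab X :=
  ((Scheme.Etale.forget X ⋙ Over.forget X).sheafPushforwardContinuous _ _ Scheme.etaleTopology).obj ⟨P, hP⟩

/-- its functoriality -/
noncomputable abbrev pushMap {X Y : Scheme.{u}} (t : Y ⟶ X) : shf P hP X ⟶ (EtCoh.push t).obj (shf P hP Y) :=
  ObjectProperty.homMk (Functor.whiskerRight (NatTrans.op (EtLim.bcProj t)) P)

theorem res_pushMap {X Y : Scheme.{u}} (t : Y ⟶ X) {V : X.Etale} {W : Y.Etale} (a : W.left ⟶ V.left)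
    (w : a ≫ V.hom = W.hom ≫ t) (s : (shf P hP X).obj.obj (op V)) :
    res t (pushMap P hP t) a w s = P.map a.op s := by
  change P.map (liftBc t a w).left.op (P.map (bcFst t V).op s) = _
  rw [← Functor.map_comp_apply, ← op_comp, liftBc_fst]

/-- the sections of `P` on a limit are the colimit of the sections -/
structure FunCont : Prop where
  surj : ∀ {I : Type u} [SmallCategory I] [IsCofiltered I] (D : I ⥤ Scheme.{u})
    [∀ {i j : I} (f : i ⟶ j), IsAffineHom (D.map f)] [∀ i, CompactSpace ↥(D.obj i)]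
    [∀ i, QuasiSeparatedSpace ↥(D.obj i)] (d : Cone D), IsLimit d → ∀ σ : P.obj (op d.pt),
      ∃ (i : I) (s : P.obj (op (D.obj i))), P.map (d.π.app i).op s = σ
  inj : ∀ {I : Type u} [SmallCategory I] [IsCofiltered I] (D : I ⥤ Scheme.{u})
    [∀ {i j : I} (f : i ⟶ j), IsAffineHom (D.map f)] [∀ i, CompactSpace ↥(D.obj i)]
    [∀ i, QuasiSeparatedSpace ↥(D.obj i)] (d : Cone D), IsLimit d → ∀ (i : I) (s : P.obj (op (D.obj i))),
      P.map (d.π.app i).op s = 0 → ∃ (j : I) (f : j ⟶ i), P.map (D.map f).op s = 0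

variable {ι : Type u} [Preorder ι] (Xs : ιᵒᵖ ⥤ Scheme.{u})

/-- the system of these sheaves -/
noncomputable def funSys : Sys Xs where
  F i := shf P hP (Xs.obj (op i))
  l _ _ h := pushMap P hP (tr Xs h)
  comp _ _ _ _ _ := fun V W W' a w b w' e we hbe s => by
    rw [res_pushMap P hP, res_pushMap P hP, res_pushMap P hP, ← Functor.map_comp_apply, ← op_comp, hbe]

theorem funSys_isUnital : (funSys P hP Xs).IsUnital := fun i V W g w s => res_pushMap P hP _ g.left w s

variable {Xs} (c : Cone Xs)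

/-- the same sheaf on the limit -/
noncomputable def funTarget : Target (funSys P hP Xs) c where
  G := shf P hP c.pt
  g i := pushMap P hP (pr c i)
  comp _ _ _ := fun V W W' a w b w' e we hbe s => by
    change res _ (pushMap P hP _) b w' (res _ (pushMap P hP _) a w s) = res _ (pushMap P hP _) e we s
    rw [res_pushMap P hP, res_pushMap P hP, res_pushMap P hP, ← Functor.map_comp_apply, ← op_comp, hbe]

variable [IsDirected ι (· ≤ ·)] [Nonempty ι] [hA : ∀ {a b : ιᵒᵖ} (h : a ⟶ b), IsAffineHom (Xs.map h)]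
  (hc : IsLimit c) (hqc : ∀ a, CompactSpace ↥(Xs.obj a)) (hqs : ∀ a, QuasiSeparatedSpace ↥(Xs.obj a))

include hc hqc hqs

theorem funTarget_isCont (hF : FunCont P) : IsCont (funTarget P hP c) where
  surj j V hV σ := by
    haveI := fun k : Over (op j) => compactSpace_bcDiagram (Xs := Xs) j V hV k
    haveI := fun k : Over (op j) => (isQcqsObj_bc_map j V (leOfHom k.hom.unop) hV).2
    haveI : ∀ k : Over (op j), QuasiSeparatedSpace ↥((bcDiagram (Xs := Xs) j V).obj k) := fun k =>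
      (isQcqsObj_bc_map j V (leOfHom k.hom.unop) hV).2
    obtain ⟨k, s, hs⟩ := hF.surj (bcDiagram j V) (bcCone c j V) (isLimitBcCone j V hc) σ
    refine ⟨k.left.unop, leOfHom k.hom.unop, s, ?_⟩
    exact (res_pushMap P hP _ _ _ _).trans hs
  inj j V hV s hs := by
    haveI := fun k : Over (op j) => compactSpace_bcDiagram (Xs := Xs) j V hV k
    haveI : ∀ k : Over (op j), QuasiSeparatedSpace ↥((bcDiagram (Xs := Xs) j V).obj k) := fun k =>
      (isQcqsObj_bc_map j V (leOfHom k.hom.unop) hV).2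
    let j₀ : Over (op j) := Over.mk (𝟙 (op j))
    let p₀ := bcFst (Xs.map j₀.hom) V
    have e₀ : (bcCone c j V).π.app j₀ ≫ p₀ = bcFst (pr c j) V := bcMap_fst (c.w j₀.hom) V
    replace hs : P.map (bcFst (pr c j) V).op s = 0 := (res_pushMap P hP _ _ _ _).symm.trans hs
    have hs' : P.map ((bcCone c j V).π.app j₀).op (P.map p₀.op s) = 0 :=
      ((Functor.map_comp_apply P _ _ s).symm.trans (congrArg (fun r => (P.map (Quiver.Hom.op r)).hom s) e₀)).trans hs
    obtain ⟨k, f, hk⟩ := hF.inj (bcDiagram j V) (bcCone c j V) (isLimitBcCone j V hc) j₀ _ hs'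
    refine ⟨k.left.unop, leOfHom k.hom.unop, (res_pushMap P hP _ _ _ _).trans ?_⟩
    have e : (bcDiagram j V).map f ≫ p₀ = bcFst (Xs.map k.hom) V := bcMap_fst (map_over_w j f) V
    change P.map (bcFst (Xs.map k.hom) V).op s = 0
    exact ((congrArg (fun r => (P.map (Quiver.Hom.op r)).hom s) e).symm.trans
      (Functor.map_comp_apply P p₀.op _ s)).trans hk

attribute [local instance] preservesFiniteLimits_pull

/-- cohomology of `P` on the limit is the colimit -/
theorem comm_fun (hF : FunCont P) (n : ℕ) :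
    (∀ ξ : EtCoh.H c.pt (shf P hP c.pt) n, ∃ (j : ι) (ξj : EtCoh.H (Xs.obj (op j)) (shf P hP (Xs.obj (op j))) n),
      EtLim.HofPush (pr c j) (shf P hP c.pt) n
        (((EtCoh.HF (Xs.obj (op j)) n).map (pushMap P hP (pr c j))).hom ξj) = ξ) ∧
    (∀ (j : ι) (ξj : EtCoh.H (Xs.obj (op j)) (shf P hP (Xs.obj (op j))) n),
      EtLim.HofPush (pr c j) (shf P hP c.pt) n
        (((EtCoh.HF (Xs.obj (op j)) n).map (pushMap P hP (pr c j))).hom ξj) = 0 →
        ∃ (k : ι) (h : j ≤ k), EtLim.HofPush (tr Xs h) (shf P hP (Xs.obj (op k))) n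
          (((EtCoh.HF (Xs.obj (op j)) n).map (pushMap P hP (tr Xs h))).hom ξj) = 0) := by
  have key : ∀ {X Y : Scheme.{u}} (t : Y ⟶ X) (ξ : EtCoh.H X (shf P hP X) n),
      EtLim.HofPush t (shf P hP Y) n (((EtCoh.HF X n).map (pushMap P hP t)).hom ξ) =
        EtLim.HpullThen t (shf P hP X) (((EtCoh.pullPushAdj t).homEquiv _ _).symm (pushMap P hP t)) n ξ := by
    intro X Y t ξ
    refine (HpullThen_mk₀ t (pushMap P hP t) ((EtCoh.pullPushAdj t).counit.app _) n ξ).trans ?_
    rw [Adjunction.homEquiv_counit]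
  obtain ⟨h₁, h₂⟩ := comm_of_isColim hc hqc hqs (funSys_isUnital P hP Xs) (funTarget P hP c)
    (isColim_of_isCont hc hqc hqs _ (funTarget_isCont P hP c hc hqc hqs hF)) n
  refine ⟨fun ξ => ?_, fun j ξj hξ => ?_⟩
  · obtain ⟨j, ξj, h⟩ := h₁ ξ
    exact ⟨j, ξj, (key _ _).trans h⟩
  · obtain ⟨k, hk, h⟩ := h₂ j ξj ((key _ _).symm.trans hξ)
    exact ⟨k, hk, (key _ _).trans h⟩

omit hc hqc hqs

/-- functions form such a sheaf -/
theorem funCont_ΓAdd : FunCont EtCoh.ΓAdd.{u} where
  surj D _ _ _ d hd σ := by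
    obtain ⟨i, t, ht⟩ := exists_appTop_π_eq_of_isLimit D d hd σ.down
    exact ⟨i, ULift.up t, congrArg ULift.up ht.symm⟩
  inj D _ _ _ d hd i s hs := by
    obtain ⟨j, f, hj⟩ := exists_appTop_map_eq_zero_of_isLimit D d hd s.down (congrArg ULift.down hs)
    exact ⟨j, f, congrArg ULift.up hj⟩

/-- units of functions form such a sheaf -/
theorem funCont_ΓUnits : FunCont EtCoh.ΓUnits.{u} where
  surj D _ _ _ d hd σ := by
    let v : Γ(d.pt, ⊤)ˣ := Additive.toMul σ.down
    obtain ⟨i₁, a, ha⟩ := exists_appTop_π_eq_of_isLimit D d hd (v : Γ(d.pt, ⊤))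
    obtain ⟨i₂, b, hb⟩ := exists_appTop_π_eq_of_isLimit D d hd (↑v⁻¹ : Γ(d.pt, ⊤))
    let i₀ := IsCofiltered.min i₁ i₂
    let f₁ := IsCofiltered.minToLeft i₁ i₂
    let f₂ := IsCofiltered.minToRight i₁ i₂
    have e₁ : (d.π.app i₀).appTop ((D.map f₁).appTop a) = (v : Γ(d.pt, ⊤)) := by
      rw [ha, ← d.w f₁, Scheme.Hom.comp_appTop]
      rfl
    have e₂ : (d.π.app i₀).appTop ((D.map f₂).appTop b) = (↑v⁻¹ : Γ(d.pt, ⊤)) := by
      rw [hb, ← d.w f₂, Scheme.Hom.comp_appTop]
      rfl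
    obtain ⟨j, g, hg⟩ := exists_appTop_map_eq_zero_of_isLimit D d hd
      ((D.map f₁).appTop a * (D.map f₂).appTop b - 1) (by
        rw [map_sub, map_mul, map_one, e₁, e₂, Units.mul_inv, sub_self])
    rw [map_sub, map_mul, map_one, sub_eq_zero] at hg
    let x : Γ(D.obj j, ⊤)ˣ := ⟨(D.map g).appTop ((D.map f₁).appTop a), (D.map g).appTop ((D.map f₂).appTop b), hg,
      (mul_comm _ _).trans hg⟩
    refine ⟨j, ULift.up (Additive.ofMul x), congrArg ULift.up (congrArg Additive.ofMul (Units.ext ?_))⟩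
    change (d.π.app j).appTop ((D.map g).appTop ((D.map f₁).appTop a)) = (v : Γ(d.pt, ⊤))
    rw [← e₁, ← d.w g, Scheme.Hom.comp_appTop]
    rfl
  inj D _ _ _ d hd i s hs := by
    let v : Γ(D.obj i, ⊤)ˣ := Additive.toMul s.down
    have h1 : (d.π.app i).appTop (v : Γ(D.obj i, ⊤)) = 1 :=
      congrArg (fun z : Γ(d.pt, ⊤)ˣ => (z : Γ(d.pt, ⊤))) (congrArg Additive.toMul (congrArg ULift.down hs))
    obtain ⟨j, f, hj⟩ := exists_appTop_map_eq_zero_of_isLimit D d hd ((v : Γ(D.obj i, ⊤)) - 1) (by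
      rw [map_sub, map_one, h1, sub_self])
    rw [map_sub, map_one, sub_eq_zero] at hj
    exact ⟨j, f, congrArg ULift.up (congrArg Additive.ofMul (Units.ext hj))⟩

end Groth.Agent.EtLim5
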